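import Cfsg.Agent.Lib.SteinerSearch.Core

/-!
# Certified search for the uniqueness of strongly regular graphs

A graph on `Fin n` is given by its neighbourhoods.  A certificate is a list of nodes, each being a
list of "known" vertices together with their neighbourhoods (as bitmasks).  A node is a proof that
any strongly regular graph with these neighbourhoods is isomorphic to the standard one.  At a node
a further vertex `u` is picked and the vertices are partitioned in intervals ("cells") on which the
known neighbourhoods are constant: up to a permutation of each cell, the neighbourhood of `u` is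
determined by the numbers of its points in the cells, and these numbers satisfy linear equations,
whose solutions are enumerated.
-/

set_option autoImplicit false

namespace Cfsg.Agent.Lib.SRGSearch.Core

open Cfsg.Agent.Lib.SteinerSearch.Core (mset mem_mset newBits testBit_newBits allK anyK allK_iff
  anyK_iff tb tb_eq exists_perm_fix imageMask testBit_imageMask mset_imageMask)

/-! ## Semantics -/

/-- Neighbourhoods of a strongly regular graph on `Fin n`. -/
structure IsSRG (n k lam mu : ℕ) (N : Fin n → Finset (Fin n)) : Prop where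
  symm : ∀ u v, v ∈ N u → u ∈ N v
  irrefl : ∀ u, u ∉ N u
  card : ∀ u, (N u).card = k
  inter : ∀ u v, u ≠ v → (N u ∩ N v).card = if v ∈ N u then lam else mu

/-- Relabelling of a graph given by its neighbourhoods. -/
def act {n : ℕ} (σ : Equiv.Perm (Fin n)) (N : Fin n → Finset (Fin n)) : Fin n → Finset (Fin n) :=
  fun u => (N (σ.symm u)).image σ

section act

variable {n k lam mu : ℕ}

theorem isSRG_act {N : Fin n → Finset (Fin n)} (h : IsSRG n k lam mu N) (σ : Equiv.Perm (Fin n)) :
    IsSRG n k lam mu (act σ N) := by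
  constructor
  · intro u v hv
    simp only [act, Finset.mem_image] at hv ⊢
    obtain ⟨w, hw, rfl⟩ := hv
    refine ⟨σ.symm u, h.symm _ _ ?_, by simp⟩
    simpa using hw
  · intro u hu
    simp only [act, Finset.mem_image] at hu
    obtain ⟨w, hw, hwu⟩ := hu
    have : w = σ.symm u := by rw [← hwu]; simp
    rw [this] at hw
    exact h.irrefl _ hw
  · intro u
    show ((N (σ.symm u)).image σ).card = k
    rw [Finset.card_image_of_injective _ σ.injective, h.card]
  · intro u v huv
    have hne : σ.symm u ≠ σ.symm v := fun h' => huv (σ.symm.injective h')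
    show ((N (σ.symm u)).image σ ∩ (N (σ.symm v)).image σ).card =
      if v ∈ (N (σ.symm u)).image σ then lam else mu
    rw [← Finset.image_inter _ _ σ.injective, Finset.card_image_of_injective _ σ.injective,
      h.inter _ _ hne]
    have : v ∈ (N (σ.symm u)).image σ ↔ σ.symm v ∈ N (σ.symm u) := by
      rw [Finset.mem_image]
      constructor
      · rintro ⟨w, hw, rfl⟩
        simpa using hw
      · intro hw
        exact ⟨_, hw, by simp⟩
    simp only [this]

theorem act_act (σ τ : Equiv.Perm (Fin n)) (N : Fin n → Finset (Fin n)) :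
    act τ (act σ N) = act (σ.trans τ) N := by
  funext u
  show ((N (σ.symm (τ.symm u))).image σ).image τ = (N ((σ.trans τ).symm u)).image (σ.trans τ)
  rw [Finset.image_image]
  rfl

theorem act_one (N : Fin n → Finset (Fin n)) : act (Equiv.refl _) N = N := by
  funext u
  show (N u).image (Equiv.refl _) = N u
  ext x
  simp

end act

/-- Known vertices with their neighbourhoods. -/
abbrev KL := List (ℕ × ℕ)

/-- The known neighbourhoods are those of the graph. -/
def Kn {n : ℕ} (K : KL) (N : Fin n → Finset (Fin n)) : Prop :=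
  ∀ p ∈ K, ∀ h : p.1 < n, N ⟨p.1, h⟩ = mset n p.2

/-- Any graph with the known neighbourhoods is isomorphic to the standard one. -/
def Good (n k lam mu : ℕ) (Std : Fin n → Finset (Fin n)) (K : KL) : Prop :=
  ∀ N, IsSRG n k lam mu N → Kn K N → ∃ σ : Equiv.Perm (Fin n), act σ N = Std

/-! ## Relabelling -/

/-- Force a number to be evaluated. -/
def fz {α : Sort*} (x : ℕ) (f : ℕ → α) : α := Nat.rec (f 0) (fun m _ => f (Nat.succ m)) x

theorem fz_eq {α : Sort*} (x : ℕ) (f : ℕ → α) : fz x f = f x := by
  cases x <;> rfl

/-- Image of a mask, fast. -/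
def imgF (π : List ℕ) (m : ℕ) : ℕ :=
  List.rec (motive := fun _ => ℕ → ℕ) (fun _ => 0)
    (fun q _ ih m => Nat.lor (cond (Nat.beq (Nat.land m 1) 1) (Nat.pow 2 q) 0)
      (ih (Nat.shiftRight m 1))) π m

theorem imgF_eq (π : List ℕ) (m : ℕ) : imgF π m = imageMask π m := by
  induction π generalizing m with
  | nil => rfl
  | cons q ps ih =>
    show Nat.lor (cond (Nat.beq (Nat.land m 1) 1) (Nat.pow 2 q) 0) (imgF ps (Nat.shiftRight m 1)) = _
    rw [ih]
    have h1 : Nat.land m 1 = m % 2 := Nat.and_one_is_mod m
    have h2 : Nat.shiftRight m 1 = m / 2 := by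
      show m >>> 1 = m / 2
      rw [Nat.shiftRight_eq_div_pow]
    rw [h1, h2]
    show _ = (if m % 2 = 1 then 2 ^ q else 0) ||| imageMask ps (m / 2)
    by_cases hm : m % 2 = 1
    · rw [if_pos hm, hm]
      rfl
    · rw [if_neg hm]
      have : Nat.beq (m % 2) 1 = false := by
        rw [← Bool.not_eq_true, Nat.beq_eq]
        exact hm
      rw [this]
      rfl

/-- Kernel-friendly list lookup. -/
def nthK (l : List ℕ) : ℕ → ℕ :=
  List.rec (fun _ => 0) (fun a _ ih i => Nat.rec a (fun j _ => ih j) i) l

theorem nthK_eq {l : List ℕ} {i : ℕ} (h : i < l.length) : nthK l i = l[i] := by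
  induction l generalizing i with
  | nil => simp at h
  | cons a l ih =>
    cases i with
    | zero => rfl
    | succ i => exact ih (by simpa using h)

/-- The OR of the powers of two. -/
def orAll (π : List ℕ) : ℕ := List.rec 0 (fun q _ ih => Nat.lor (Nat.pow 2 q) ih) π

theorem testBit_orAll (π : List ℕ) (j : ℕ) : (orAll π).testBit j = true ↔ j ∈ π := by
  induction π with
  | nil => simp [orAll]
  | cons q ps ih =>
    have h0 : orAll (q :: ps) = 2 ^ q ||| orAll ps := rfl
    rw [h0, Nat.testBit_or, Bool.or_eq_true, ih, Nat.testBit_two_pow, List.mem_cons]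
    simp [eq_comm]

/-- Check of a permutation given by the list of its values. -/
def isPermF (n : ℕ) (π : List ℕ) : Bool :=
  cond (Nat.beq π.length n)
    (cond (allK (fun x => Nat.blt x n) π) (Nat.beq (orAll π) (Nat.sub (Nat.pow 2 n) 1)) false) false

theorem blt_iff' {a b : ℕ} : Nat.blt a b = true ↔ a < b := by
  rw [Nat.blt_eq]

theorem cond_false_iff' {a b : Bool} : cond a b false = true ↔ a = true ∧ b = true := by
  cases a <;> simp

theorem exists_perm_of_isPermF {n : ℕ} {π : List ℕ} (h : isPermF n π = true) :
    ∃ σ : Equiv.Perm (Fin n), ∃ hl : π.length = n,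
      ∀ i : Fin n, π[i.val]'(by rw [hl]; exact i.2) = (σ i).val := by
  unfold isPermF at h
  obtain ⟨h1, h⟩ := cond_false_iff'.mp h
  obtain ⟨h2, h3⟩ := cond_false_iff'.mp h
  have hl : π.length = n := Nat.eq_of_beq_eq_true h1
  rw [allK_iff] at h2
  have hlt : ∀ x ∈ π, x < n := fun x hx => blt_iff'.mp (h2 x hx)
  have h4 : orAll π = 2 ^ n - 1 := Nat.eq_of_beq_eq_true h3
  have hmem : ∀ j, j < n → j ∈ π := by
    intro j hj
    rw [← testBit_orAll, h4, Nat.testBit_two_pow_sub_one]
    simpa using hj
  let f : Fin n → Fin n := fun i => ⟨π[i.val]'(by rw [hl]; exact i.2), hlt _ (List.getElem_mem _)⟩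
  have hsurj : Function.Surjective f := by
    intro j
    obtain ⟨i, hi, hij⟩ := List.mem_iff_getElem.mp (hmem j.val j.2)
    exact ⟨⟨i, by rwa [hl] at hi⟩, Fin.ext hij⟩
  have hbij := Finite.surjective_iff_bijective.mp hsurj
  exact ⟨Equiv.ofBijective f hbij, hl, fun i => rfl⟩

section relabel

variable {n k lam mu : ℕ} {Std : Fin n → Finset (Fin n)}

theorem image_symm_image_perm (σ : Equiv.Perm (Fin n)) (s : Finset (Fin n)) :
    (s.image σ).image σ.symm = s := by
  ext x
  simp

theorem good_relabel {K T : KL} {π : List ℕ} (hπ : isPermF n π = true)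
    (hsub : ∀ p ∈ T, p.1 < n ∧ (nthK π p.1, imgF π p.2) ∈ K)
    (h : Good n k lam mu Std T) : Good n k lam mu Std K := by
  obtain ⟨σ, hl, hσ⟩ := exists_perm_of_isPermF hπ
  intro N hN hK
  obtain ⟨τ, hτ⟩ := h (act σ.symm N) (isSRG_act hN σ.symm) (by
    intro p hp hpn
    obtain ⟨_, hmem⟩ := hsub p hp
    have hval : nthK π p.1 = (σ ⟨p.1, hpn⟩).val := by
      rw [nthK_eq (by rw [hl]; exact hpn)]
      exact hσ ⟨p.1, hpn⟩
    have h1 := hK _ hmem (by rw [hval]; exact (σ ⟨p.1, hpn⟩).2)
    have h2 : (⟨nthK π p.1, by rw [hval]; exact (σ ⟨p.1, hpn⟩).2⟩ : Fin n) = σ ⟨p.1, hpn⟩ :=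
      Fin.ext hval
    rw [h2] at h1
    show (N (σ.symm.symm ⟨p.1, hpn⟩)).image σ.symm = mset n p.2
    have h3 : σ.symm.symm = σ := by
      ext x
      rfl
    rw [h3, h1]
    show (mset n (imgF π p.2)).image σ.symm = mset n p.2
    rw [imgF_eq, mset_imageMask hl hσ, image_symm_image_perm])
  refine ⟨σ.symm.trans τ, ?_⟩
  rw [← act_act, hτ]

theorem good_mono {K T : KL} (hsub : ∀ p ∈ T, p ∈ K) (h : Good n k lam mu Std T) :
    Good n k lam mu Std K :=
  fun N hN hK => h N hN (fun p hp => hK p (hsub p hp))

end relabel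

/-! ## Cells -/

/-- A cell of vertices. -/
structure Cl where
  /-- first vertex -/
  a : ℕ
  /-- number of vertices -/
  s : ℕ
  /-- lower bound for the number of neighbours in the cell -/
  lo : ℕ
  /-- upper bound for the number of neighbours in the cell -/
  hi : ℕ
  /-- which known neighbourhoods contain the cell -/
  sig : List Bool
  /-- capacities of the known neighbourhoods after this cell -/
  cap : List ℕ
  /-- total capacity after this cell -/
  capD : ℕ

/-- `b ? h : 0`. -/
def bv (b : Bool) (h : ℕ) : ℕ := cond b h 0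

/-- Capacities, adding one cell. -/
def addS (cap : List ℕ) (sig : List Bool) (h : ℕ) : List ℕ :=
  List.rec (motive := fun _ => List Bool → List ℕ) (fun _ => [])
    (fun c _ ih sig => List.rec [] (fun b bs _ => Nat.add (bv b h) c :: ih bs) sig) cap sig

/-- The bounds for a cell. -/
def lohiOf (kv kz a s : ℕ) : ℕ × ℕ :=
  cond (Nat.beq s 1) (cond (tb kv a) (1, 1) (cond (tb kz a) (0, 0) (0, s))) (0, s)

/-- The next cell. -/
def mkCl (K : KL) (kv kz a s : ℕ) (rest : List Cl) : List Cl :=
  ⟨a, s, (lohiOf kv kz a s).1, (lohiOf kv kz a s).2, K.map (fun p => tb p.2 a),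
    List.rec (K.map fun _ => 0) (fun c _ _ => addS c.cap c.sig c.hi) rest,
    List.rec 0 (fun c _ _ => Nat.add c.hi c.capD) rest⟩ :: rest

/-- The list of cells from the list of sizes. -/
def annot (K : KL) (kv kz : ℕ) (sizes : List ℕ) (a : ℕ) : List Cl :=
  List.rec (motive := fun _ => ℕ → List Cl) (fun _ => [])
    (fun s _ ih a => mkCl K kv kz a s (ih (Nat.add a s))) sizes a

/-- Update of the remainders when `v` points are chosen in a cell. -/
def stepR (rem : List ℕ) (sig : List Bool) (cap : List ℕ) (v : ℕ) : Option (List ℕ) :=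
  List.rec (motive := fun _ => List Bool → List ℕ → Option (List ℕ))
    (fun _ _ => some [])
    (fun r _ ih sig cap =>
      List.rec none (fun b bs _ =>
        List.rec none (fun c cs _ =>
          cond (cond b (Nat.ble v r) true)
            (fz (cond b (Nat.sub r v) r) fun r' =>
              cond (Nat.ble r' c)
                (Option.rec none (fun l => some (r' :: l)) (ih bs cs))
                none)
            none) cap) sig) rem sig cap

/-- All the numbers are zero. -/
def allZero (l : List ℕ) : Bool := List.rec true (fun r _ ih => cond (Nat.beq r 0) ih false) l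

/-- One value for the number of points in a cell. -/
def tryV (c : Cl) (ih : List ℕ → ℕ → ℕ → List ℕ) (rem : List ℕ) (deg acc v : ℕ) : List ℕ :=
  cond (Nat.ble v deg)
    (fz (Nat.sub deg v) fun deg' =>
      cond (Nat.ble deg' c.capD)
        (Option.rec [] (fun rem' => ih rem' deg'
            (Nat.lor acc (Nat.shiftLeft (Nat.sub (Nat.pow 2 v) 1) c.a)))
          (stepR rem c.sig c.cap v))
        [])
    []

/-- All values for the number of points in a cell. -/
def loopV (c : Cl) (ih : List ℕ → ℕ → ℕ → List ℕ) (rem : List ℕ) (deg acc : ℕ) (cnt v : ℕ) :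
    List ℕ :=
  Nat.rec (motive := fun _ => ℕ → List ℕ) (fun _ => [])
    (fun _ ihv v => List.append (tryV c ih rem deg acc v) (ihv (Nat.succ v))) cnt v

/-- Enumeration of the neighbourhoods. -/
def enumC (cs : List Cl) (rem : List ℕ) (deg acc : ℕ) : List ℕ :=
  List.rec (motive := fun _ => List ℕ → ℕ → ℕ → List ℕ)
    (fun rem deg acc => cond (Nat.beq deg 0) (cond (allZero rem) [acc] []) [])
    (fun c _ ih rem deg acc =>
      loopV c ih rem deg acc (Nat.sub (Nat.succ (cond (Nat.ble c.hi deg) c.hi deg)) c.lo) c.lo)
    cs rem deg acc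

/-! ### Completeness of the enumeration -/

/-- Sum of the hi bounds on the cells in a neighbourhood. -/
def capS (cs : List Cl) (p : ℕ × ℕ) : ℕ := (cs.map fun c => bv (tb p.2 c.a) c.hi).sum

/-- Sum of the hi bounds. -/
def capT (cs : List Cl) : ℕ := (cs.map fun c => c.hi).sum

/-- Sum of counts on the cells in a neighbourhood. -/
def sumS (C : Cl → ℕ) (cs : List Cl) (p : ℕ × ℕ) : ℕ := (cs.map fun c => bv (tb p.2 c.a) (C c)).sum

/-- Sum of counts. -/
def sumT (C : Cl → ℕ) (cs : List Cl) : ℕ := (cs.map C).sum

/-- The annotations of the cells are right. -/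
def Spec (K : KL) : List Cl → Prop
  | [] => True
  | c :: cs => c.sig = K.map (fun p => tb p.2 c.a) ∧ c.cap = K.map (capS cs) ∧ c.capD = capT cs ∧
      Spec K cs

theorem addS_map (K : KL) (f : ℕ × ℕ → ℕ) (b : ℕ × ℕ → Bool) (h : ℕ) :
    addS (K.map f) (K.map b) h = K.map (fun p => bv (b p) h + f p) := by
  induction K with
  | nil => rfl
  | cons p K ih =>
    have : addS (f p :: K.map f) (b p :: K.map b) h = (bv (b p) h + f p) :: addS (K.map f) (K.map b) h :=
      rfl
    simp only [List.map_cons]
    rw [this, ih]

theorem mkCl_spec {K : KL} {kv kz a s : ℕ} {rest : List Cl} (h : Spec K rest) :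
    Spec K (mkCl K kv kz a s rest) := by
  refine ⟨rfl, ?_, ?_, h⟩
  · cases rest with
    | nil =>
      show K.map (fun _ => 0) = K.map (capS [])
      rfl
    | cons c cs =>
      obtain ⟨h1, h2, _, _⟩ := h
      show addS c.cap c.sig c.hi = K.map (capS (c :: cs))
      rw [h1, h2, addS_map]
      rfl
  · cases rest with
    | nil => rfl
    | cons c cs =>
      obtain ⟨_, _, h3, _⟩ := h
      show Nat.add c.hi c.capD = capT (c :: cs)
      rw [h3]
      rfl

theorem annot_spec (K : KL) (kv kz : ℕ) (sizes : List ℕ) (a : ℕ) :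
    Spec K (annot K kv kz sizes a) := by
  induction sizes generalizing a with
  | nil => trivial
  | cons s ss ih => exact mkCl_spec (ih _)

theorem stepR_map (K : KL) (f1 f g : ℕ × ℕ → ℕ) (b : ℕ × ℕ → Bool) (v : ℕ)
    (h1 : ∀ p ∈ K, f1 p = bv (b p) v + f p) (h2 : ∀ p ∈ K, f p ≤ g p) :
    stepR (K.map f1) (K.map b) (K.map g) v = some (K.map f) := by
  induction K with
  | nil => rfl
  | cons p K ih =>
    have ih' := ih (fun q hq => h1 q (List.mem_cons_of_mem _ hq))
      (fun q hq => h2 q (List.mem_cons_of_mem _ hq))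
    have hp1 := h1 p List.mem_cons_self
    have hp2 := h2 p List.mem_cons_self
    show cond (cond (b p) (Nat.ble v (f1 p)) true)
        (fz (cond (b p) (Nat.sub (f1 p) v) (f1 p)) fun r' =>
          cond (Nat.ble r' (g p))
            (Option.rec none (fun l => some (r' :: l))
              (stepR (K.map f1) (K.map b) (K.map g) v))
            none)
        none = some (f p :: K.map f)
    rw [ih', fz_eq]
    cases hb : b p with
    | true =>
      rw [hb] at hp1
      have e1 : f1 p = v + f p := hp1
      have e2 : Nat.ble v (f1 p) = true := Nat.ble_eq_true_of_le (by omega)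
      have e3 : Nat.sub (f1 p) v = f p := by
        show f1 p - v = f p
        omega
      simp only [cond_true, e2, e3]
      rw [Nat.ble_eq_true_of_le hp2]
      rfl
    | false =>
      rw [hb] at hp1
      have e1 : f1 p = f p := by
        have : bv false v = 0 := rfl
        rw [this] at hp1
        omega
      simp only [cond_false, cond_true, e1]
      rw [Nat.ble_eq_true_of_le hp2]
      rfl

theorem allZero_map (K : KL) : allZero (K.map fun _ => 0) = true := by
  induction K with
  | nil => rfl
  | cons p K ih =>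
    show cond (Nat.beq 0 0) (allZero (K.map fun _ => 0)) false = true
    rw [ih]
    rfl

theorem mem_loopV (c : Cl) (ih : List ℕ → ℕ → ℕ → List ℕ) (rem : List ℕ) (deg acc : ℕ) {x : ℕ}
    (cnt v w : ℕ) (h1 : v ≤ w) (h2 : w < v + cnt) (hx : x ∈ tryV c ih rem deg acc w) :
    x ∈ loopV c ih rem deg acc cnt v := by
  induction cnt generalizing v with
  | zero => omega
  | succ cnt ihc =>
    show x ∈ List.append (tryV c ih rem deg acc v) (loopV c ih rem deg acc cnt (Nat.succ v))
    rw [List.append_eq, List.mem_append]
    rcases Nat.eq_or_lt_of_le h1 with rfl | h3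
    · exact Or.inl hx
    · exact Or.inr (ihc _ h3 (by omega))

/-- The mask of a choice of numbers of points. -/
def foldMask (C : Cl → ℕ) (cs : List Cl) (acc : ℕ) : ℕ :=
  cs.foldl (fun acc c => Nat.lor acc (Nat.shiftLeft (Nat.sub (Nat.pow 2 (C c)) 1) c.a)) acc

theorem capS_ge (C : Cl → ℕ) (cs : List Cl) (hb : ∀ c ∈ cs, C c ≤ c.hi) (p : ℕ × ℕ) :
    sumS C cs p ≤ capS cs p := by
  induction cs with
  | nil => exact le_refl _
  | cons c cs ih =>
    have h1 := ih (fun x hx => hb x (List.mem_cons_of_mem _ hx))
    have h2 := hb c List.mem_cons_self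
    show bv (tb p.2 c.a) (C c) + sumS C cs p ≤ bv (tb p.2 c.a) c.hi + capS cs p
    have h3 : bv (tb p.2 c.a) (C c) ≤ bv (tb p.2 c.a) c.hi := by
      cases tb p.2 c.a
      · exact le_refl _
      · exact h2
    omega

theorem capT_ge (C : Cl → ℕ) (cs : List Cl) (hb : ∀ c ∈ cs, C c ≤ c.hi) :
    sumT C cs ≤ capT cs := by
  induction cs with
  | nil => exact le_refl _
  | cons c cs ih =>
    have h1 := ih (fun x hx => hb x (List.mem_cons_of_mem _ hx))
    have h2 := hb c List.mem_cons_self
    show C c + sumT C cs ≤ c.hi + capT cs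
    omega

/-- The enumeration contains all the solutions. -/
theorem mem_enumC (K : KL) (C : Cl → ℕ) (cs : List Cl) (hS : Spec K cs)
    (hb : ∀ c ∈ cs, c.lo ≤ C c ∧ C c ≤ c.hi) (acc : ℕ) :
    foldMask C cs acc ∈ enumC cs (K.map (sumS C cs)) (sumT C cs) acc := by
  induction cs generalizing acc with
  | nil =>
    show acc ∈ cond (Nat.beq 0 0) (cond (allZero (K.map (sumS C []))) [acc] []) []
    have : allZero (K.map (sumS C [])) = true := allZero_map K
    rw [this]
    simp
  | cons c cs ih =>
    obtain ⟨h1, h2, h3, hS'⟩ := hS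
    have hb' : ∀ x ∈ cs, x.lo ≤ C x ∧ C x ≤ x.hi := fun x hx => hb x (List.mem_cons_of_mem _ hx)
    have hc := hb c List.mem_cons_self
    have ih' := ih hS' hb' (Nat.lor acc (Nat.shiftLeft (Nat.sub (Nat.pow 2 (C c)) 1) c.a))
    have hdeg : sumT C (c :: cs) = C c + sumT C cs := rfl
    show foldMask C cs (Nat.lor acc (Nat.shiftLeft (Nat.sub (Nat.pow 2 (C c)) 1) c.a)) ∈
      loopV c (enumC cs) (K.map (sumS C (c :: cs))) (sumT C (c :: cs)) acc
        (Nat.sub (Nat.succ (cond (Nat.ble c.hi (sumT C (c :: cs))) c.hi (sumT C (c :: cs)))) c.lo) c.lo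
    have hle : C c ≤ cond (Nat.ble c.hi (sumT C (c :: cs))) c.hi (sumT C (c :: cs)) := by
      cases h : Nat.ble c.hi (sumT C (c :: cs))
      · show C c ≤ sumT C (c :: cs)
        omega
      · exact hc.2
    apply mem_loopV c (enumC cs) _ _ acc _ c.lo (C c) hc.1
    · show C c < c.lo + (Nat.succ (cond (Nat.ble c.hi (sumT C (c :: cs))) c.hi (sumT C (c :: cs))) - c.lo)
      have := hc.1
      omega
    · have hstep : stepR (K.map (sumS C (c :: cs))) c.sig c.cap (C c) = some (K.map (sumS C cs)) := by
        rw [h1, h2]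
        apply stepR_map
        · intro p _
          rfl
        · intro p _
          exact capS_ge C cs (fun x hx => (hb' x hx).2) p
      show _ ∈ cond (Nat.ble (C c) (sumT C (c :: cs)))
        (fz (Nat.sub (sumT C (c :: cs)) (C c)) fun deg' =>
          cond (Nat.ble deg' c.capD)
            (Option.rec [] (fun rem' => enumC cs rem' deg'
                (Nat.lor acc (Nat.shiftLeft (Nat.sub (Nat.pow 2 (C c)) 1) c.a)))
              (stepR (K.map (sumS C (c :: cs))) c.sig c.cap (C c)))
            []) []
      rw [hstep, fz_eq]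
      have e1 : Nat.ble (C c) (sumT C (c :: cs)) = true := Nat.ble_eq_true_of_le (by omega)
      have e2 : Nat.sub (sumT C (c :: cs)) (C c) = sumT C cs := by
        show sumT C (c :: cs) - C c = sumT C cs
        omega
      have e3 : Nat.ble (sumT C cs) c.capD = true := by
        rw [h3]
        exact Nat.ble_eq_true_of_le (capT_ge C cs (fun x hx => (hb' x hx).2))
      rw [e1, cond_true, e2, e3]
      exact ih'

/-! ## Cells as sets of vertices -/

section cells

variable {n : ℕ}

/-- Membership in a cell. -/
def inI (c : Cl) (j : Fin n) : Prop := c.a ≤ j.val ∧ j.val < c.a + c.s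

instance (c : Cl) : DecidablePred (inI (n := n) c) := fun j => by
  unfold inI
  infer_instance

/-- The cells are consecutive, from `a` to `t`. -/
def Lay : List Cl → ℕ → ℕ → Prop
  | [], a, t => t = a
  | c :: cs, a, t => c.a = a ∧ Lay cs (a + c.s) t

theorem Lay_le {cs : List Cl} {a t : ℕ} (h : Lay cs a t) : a ≤ t := by
  induction cs generalizing a with
  | nil =>
    have : t = a := h
    omega
  | cons c cs ih =>
    obtain ⟨_, h2⟩ := h
    have := ih h2
    omega

theorem Lay_in {cs : List Cl} {a t : ℕ} (h : Lay cs a t) {c : Cl} (hc : c ∈ cs) :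
    a ≤ c.a ∧ c.a + c.s ≤ t := by
  induction cs generalizing a with
  | nil => simp at hc
  | cons c' cs ih =>
    obtain ⟨h1, h2⟩ := h
    rcases List.mem_cons.mp hc with rfl | hc
    · exact ⟨by omega, by rw [h1]; exact Lay_le h2⟩
    · have := ih h2 hc
      omega

theorem Lay_cover {cs : List Cl} {a t : ℕ} (h : Lay cs a t) (j : Fin n) (h1 : a ≤ j.val)
    (h2 : j.val < t) : ∃ c ∈ cs, inI c j := by
  induction cs generalizing a with
  | nil =>
    have : t = a := h
    omega
  | cons c cs ih =>
    obtain ⟨h3, h4⟩ := h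
    by_cases h5 : j.val < a + c.s
    · exact ⟨c, List.mem_cons_self, by rw [h3]; exact h1, by rw [h3]; exact h5⟩
    · obtain ⟨c', hc', h6⟩ := ih h4 (by omega)
      exact ⟨c', List.mem_cons_of_mem _ hc', h6⟩

theorem card_eq_sum_Lay {cs : List Cl} {a t : ℕ} (h : Lay cs a t) (S : Finset (Fin n))
    (hS : ∀ j ∈ S, a ≤ j.val ∧ j.val < t) :
    S.card = (cs.map fun c => (S.filter (inI c)).card).sum := by
  induction cs generalizing a S with
  | nil =>
    have h0 : t = a := h
    have : S = ∅ := by
      apply Finset.eq_empty_of_forall_notMem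
      intro j hj
      have := hS j hj
      omega
    rw [this]
    rfl
  | cons c cs ih =>
    obtain ⟨h1, h2⟩ := h
    have hsplit := Finset.card_filter_add_card_filter_not (s := S) (inI (n := n) c)
    have h3 := ih h2 (S.filter fun j => ¬ inI c j) (by
      intro j hj
      rw [Finset.mem_filter] at hj
      have h4 := hS j hj.1
      refine ⟨?_, h4.2⟩
      by_contra h5
      exact hj.2 ⟨by rw [h1]; exact h4.1, by rw [h1]; omega⟩)
    have h6 : (cs.map fun c' => ((S.filter fun j => ¬ inI c j).filter (inI c')).card) =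
        (cs.map fun c' => (S.filter (inI c')).card) := by
      apply List.map_congr_left
      intro c' hc'
      congr 1
      ext j
      simp only [Finset.mem_filter]
      constructor
      · rintro ⟨⟨h7, _⟩, h8⟩
        exact ⟨h7, h8⟩
      · rintro ⟨h7, h8⟩
        refine ⟨⟨h7, ?_⟩, h8⟩
        intro h9
        have := (Lay_in h2 hc').1
        have h10 := h9.2
        have h11 := h8.1
        omega
    rw [h6] at h3
    rw [List.map_cons, List.sum_cons]
    omega

theorem card_inI_le (c : Cl) (S : Finset (Fin n)) : (S.filter (inI c)).card ≤ c.s := by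
  have h1 : ((S.filter (inI c)).image fun j => j.val) ⊆ Finset.Ico c.a (c.a + c.s) := by
    intro x hx
    simp only [Finset.mem_image, Finset.mem_filter] at hx
    obtain ⟨j, ⟨_, h2⟩, rfl⟩ := hx
    exact Finset.mem_Ico.mpr h2
  have h2 := Finset.card_le_card h1
  rw [Finset.card_image_of_injective _ Fin.val_injective] at h2
  simpa using h2

theorem card_mset_newBits' {a r n : ℕ} (h : a + r ≤ n) : (mset n (newBits a r)).card = r := by
  have : (mset n (newBits a r)).image (fun i : Fin n => i.val) = Finset.Ico a (a + r) := by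
    ext j
    simp only [Finset.mem_image, mem_mset, testBit_newBits, Finset.mem_Ico]
    constructor
    · rintro ⟨i, hi, rfl⟩
      exact hi
    · intro hj
      exact ⟨⟨j, by omega⟩, hj, rfl⟩
  rw [← Finset.card_image_of_injective _ Fin.val_injective, this]
  simp

theorem newBits_eq (a v : ℕ) : Nat.shiftLeft (Nat.sub (Nat.pow 2 v) 1) a = newBits a v := rfl

theorem exists_perm_cell (A : Finset (Fin n)) (c : Cl) (hc : c.a + c.s ≤ n) :
    ∃ σ : Equiv.Perm (Fin n), (∀ j, ¬ inI c j → σ j = j) ∧
      (A.filter (inI c)).image σ = mset n (newBits c.a (A.filter (inI c)).card) := by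
  have hr := card_inI_le c A
  have h1 : Disjoint (A.filter (inI c)) (Finset.univ.filter fun j => ¬ inI c j) := by
    rw [Finset.disjoint_left]
    intro j hj hj2
    rw [Finset.mem_filter] at hj hj2
    exact hj2.2 hj.2
  have h2 : Disjoint (mset n (newBits c.a (A.filter (inI c)).card))
      (Finset.univ.filter fun j => ¬ inI c j) := by
    rw [Finset.disjoint_left]
    intro j hj hj2
    rw [mem_mset, testBit_newBits] at hj
    rw [Finset.mem_filter] at hj2
    exact hj2.2 ⟨hj.1, by omega⟩
  obtain ⟨σ, h3, h4⟩ := exists_perm_fix (Finset.univ.filter fun j => ¬ inI (n := n) c j) _ _ _ rfl h1 h2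
    (card_mset_newBits' (by omega)).symm
  exact ⟨σ, fun j hj => h3 j (by simpa using hj), h4⟩

theorem exists_perm_cells (A : Finset (Fin n)) {cs : List Cl} {a t : ℕ} (h : Lay cs a t)
    (ht : t ≤ n) :
    ∃ σ : Equiv.Perm (Fin n), (∀ j : Fin n, j.val < a ∨ t ≤ j.val → σ j = j) ∧
      (∀ c ∈ cs, ∀ j, inI c j → inI c (σ j)) ∧
      (∀ c ∈ cs, (A.filter (inI c)).image σ = mset n (newBits c.a (A.filter (inI c)).card)) := by
  induction cs generalizing a with
  | nil =>
    refine ⟨1, fun _ _ => rfl, ?_, ?_⟩ <;> simp
  | cons c cs ih =>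
    obtain ⟨h1, h2⟩ := h
    have hle := Lay_le h2
    obtain ⟨σ2, h3, h4, h5⟩ := ih h2
    obtain ⟨σ1, h6, h7⟩ := exists_perm_cell A c (by omega)
    have hσ1I : ∀ j, inI c j → inI c (σ1 j) := by
      intro j hj
      by_contra h8
      have h9 := h6 _ h8
      have h10 : σ1 j = j := σ1.injective h9
      rw [h10] at h8
      exact h8 hj
    have hlater : ∀ c' ∈ cs, ∀ j : Fin n, inI c' j → ¬ inI c j := by
      intro c' hc' j hj hj2
      have h8 := (Lay_in h2 hc').1
      have h9 := hj.1
      have h10 := hj2.2
      omega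
    have hfirst : ∀ j : Fin n, inI c j → j.val < a + c.s := fun j hj => by
      have := hj.2
      omega
    refine ⟨σ1.trans σ2, ?_, ?_, ?_⟩
    · intro j hj
      have h8 : ¬ inI c j := by
        intro h9
        have h10 := h9.1
        have h11 := h9.2
        omega
      show σ2 (σ1 j) = j
      rw [h6 j h8]
      apply h3
      omega
    · intro c' hc' j hj
      show inI c' (σ2 (σ1 j))
      rcases List.mem_cons.mp hc' with rfl | hc'
      · have h8 := hσ1I j hj
        rw [h3 _ (Or.inl (hfirst _ h8))]
        exact h8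
      · rw [h6 j (hlater c' hc' j hj)]
        exact h4 c' hc' j hj
    · intro c' hc'
      rcases List.mem_cons.mp hc' with rfl | hc'
      · have h8 : ((A.filter (inI c')).image (σ1.trans σ2)) =
            ((A.filter (inI c')).image σ1).image σ2 := by
          rw [Finset.image_image]
          rfl
        rw [h8, h7]
        ext j
        simp only [Finset.mem_image, mem_mset, testBit_newBits]
        have hle2 : (A.filter (inI c')).card ≤ c'.s := card_inI_le c' A
        constructor
        · rintro ⟨i, hi, rfl⟩
          rw [h3 i (Or.inl (by omega))]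
          exact hi
        · intro hj
          exact ⟨j, hj, h3 j (Or.inl (by omega))⟩
      · have h8 : ((A.filter (inI c')).image (σ1.trans σ2)) =
            ((A.filter (inI c')).image σ1).image σ2 := by
          rw [Finset.image_image]
          rfl
        have h9 : (A.filter (inI c')).image σ1 = A.filter (inI c') := by
          ext j
          simp only [Finset.mem_image, Finset.mem_filter]
          constructor
          · rintro ⟨i, ⟨hi1, hi2⟩, rfl⟩
            rw [h6 i (hlater c' hc' i hi2)]
            exact ⟨hi1, hi2⟩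
          · rintro ⟨hj1, hj2⟩
            exact ⟨j, ⟨hj1, hj2⟩, h6 j (hlater c' hc' j hj2)⟩
        rw [h8, h9]
        exact h5 c' hc'

theorem testBit_foldMask (C : Cl → ℕ) (cs : List Cl) (acc j : ℕ) :
    (foldMask C cs acc).testBit j = true ↔
      acc.testBit j = true ∨ ∃ c ∈ cs, c.a ≤ j ∧ j < c.a + C c := by
  induction cs generalizing acc with
  | nil => simp [foldMask]
  | cons c cs ih =>
    show (foldMask C cs (Nat.lor acc (Nat.shiftLeft (Nat.sub (Nat.pow 2 (C c)) 1) c.a))).testBit j = true ↔ _
    rw [ih]
    have h1 : (Nat.lor acc (Nat.shiftLeft (Nat.sub (Nat.pow 2 (C c)) 1) c.a)).testBit j = true ↔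
        acc.testBit j = true ∨ (c.a ≤ j ∧ j < c.a + C c) := by
      rw [newBits_eq]
      show (acc ||| newBits c.a (C c)).testBit j = true ↔ _
      rw [Nat.testBit_or, Bool.or_eq_true, testBit_newBits]
    rw [h1]
    constructor
    · rintro ((h | h) | ⟨c', hc', h⟩)
      · exact Or.inl h
      · exact Or.inr ⟨c, List.mem_cons_self, h⟩
      · exact Or.inr ⟨c', List.mem_cons_of_mem _ hc', h⟩
    · rintro (h | ⟨c', hc', h⟩)
      · exact Or.inl (Or.inl h)
      · rcases List.mem_cons.mp hc' with rfl | hc'
        · exact Or.inl (Or.inr h)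
        · exact Or.inr ⟨c', hc', h⟩

theorem mset_foldMask {cs : List Cl} (h : Lay cs 0 n) (A : Finset (Fin n)) {σ : Equiv.Perm (Fin n)}
    (h5 : ∀ c ∈ cs, (A.filter (inI c)).image σ = mset n (newBits c.a (A.filter (inI c)).card)) :
    A.image σ = mset n (foldMask (fun c => (A.filter (inI c)).card) cs 0) := by
  ext j
  rw [mem_mset, testBit_foldMask, Finset.mem_image]
  constructor
  · rintro ⟨i, hi, rfl⟩
    obtain ⟨c, hc, h6⟩ := Lay_cover h i (Nat.zero_le _) i.2
    have h7 : σ i ∈ (A.filter (inI c)).image σ :=
      Finset.mem_image_of_mem _ (Finset.mem_filter.mpr ⟨hi, h6⟩)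
    rw [h5 c hc, mem_mset, testBit_newBits] at h7
    exact Or.inr ⟨c, hc, h7⟩
  · rintro (h6 | ⟨c, hc, h6⟩)
    · simp at h6
    · have h7 : j ∈ mset n (newBits c.a (A.filter (inI c)).card) := by
        rw [mem_mset, testBit_newBits]
        exact h6
      rw [← h5 c hc, Finset.mem_image] at h7
      obtain ⟨i, hi, hij⟩ := h7
      exact ⟨i, (Finset.mem_filter.mp hi).1, hij⟩

end cells

theorem annot_lay (K : KL) (kv kz : ℕ) (sizes : List ℕ) (a : ℕ) :
    Lay (annot K kv kz sizes a) a (a + sizes.sum) := by
  induction sizes generalizing a with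
  | nil => simp [annot, Lay]
  | cons s ss ih =>
    refine ⟨rfl, ?_⟩
    have h := ih (a + s)
    have e : a + (s :: ss).sum = a + s + ss.sum := by
      rw [List.sum_cons]
      omega
    rw [e]
    exact h

theorem lohi_spec (kv kz a s : ℕ) :
    (s = 1 ∧ tb kv a = true ∧ (lohiOf kv kz a s).1 = 1 ∧ (lohiOf kv kz a s).2 = 1) ∨
    (s = 1 ∧ tb kz a = true ∧ (lohiOf kv kz a s).1 = 0 ∧ (lohiOf kv kz a s).2 = 0) ∨
    ((lohiOf kv kz a s).1 = 0 ∧ (lohiOf kv kz a s).2 = s) := by
  unfold lohiOf
  cases h1 : Nat.beq s 1 with
  | false =>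
    right; right
    exact ⟨rfl, rfl⟩
  | true =>
    have hs : s = 1 := Nat.eq_of_beq_eq_true h1
    cases h2 : tb kv a with
    | true =>
      left
      exact ⟨hs, rfl, rfl, rfl⟩
    | false =>
      cases h3 : tb kz a with
      | true =>
        right; left
        exact ⟨hs, rfl, rfl, rfl⟩
      | false =>
        right; right
        exact ⟨rfl, rfl⟩

/-- Bounds in the annotated cells. -/
theorem annot_bounds (K : KL) (kv kz : ℕ) (sizes : List ℕ) (a : ℕ) (c : Cl)
    (hc : c ∈ annot K kv kz sizes a) :
    (c.s = 1 ∧ tb kv c.a = true ∧ c.lo = 1 ∧ c.hi = 1) ∨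
    (c.s = 1 ∧ tb kz c.a = true ∧ c.lo = 0 ∧ c.hi = 0) ∨
    (c.lo = 0 ∧ c.hi = c.s) := by
  induction sizes generalizing a with
  | nil => simp [annot] at hc
  | cons s ss ih =>
    rcases List.mem_cons.mp hc with rfl | hc
    · exact lohi_spec kv kz a s
    · exact ih _ hc

/-! ## The check of a branching -/

/-- `all` on lists of pairs by the recursor. -/
def allP (f : ℕ × ℕ → Bool) (l : KL) : Bool :=
  List.rec true (fun h _ ih => cond (f h) ih false) l

theorem allP_iff {f : ℕ × ℕ → Bool} {l : KL} : allP f l = true ↔ ∀ x ∈ l, f x = true := by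
  induction l with
  | nil => simp [allP]
  | cons h t ih =>
    show cond (f h) (allP f t) false = true ↔ _
    cases hh : f h with
    | true => simp [ih, hh]
    | false => simp [hh]

/-- Membership of a pair. -/
def memP (w m : ℕ) (K : KL) : Bool :=
  List.rec false (fun p _ ih => cond (cond (Nat.beq p.1 w) (Nat.beq p.2 m) false) true ih) K

theorem memP_iff {w m : ℕ} {K : KL} : memP w m K = true ↔ (w, m) ∈ K := by
  induction K with
  | nil => simp [memP]
  | cons p K ih =>
    show cond (cond (Nat.beq p.1 w) (Nat.beq p.2 m) false) true (memP w m K) = true ↔ _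
    rw [List.mem_cons]
    cases h : cond (Nat.beq p.1 w) (Nat.beq p.2 m) false with
    | true =>
      obtain ⟨h1, h2⟩ := cond_false_iff'.mp h
      have e1 : p.1 = w := Nat.eq_of_beq_eq_true h1
      have e2 : p.2 = m := Nat.eq_of_beq_eq_true h2
      simp only [cond_true, true_iff]
      left
      rw [← e1, ← e2]
    | false =>
      simp only [cond_false]
      rw [ih]
      constructor
      · exact Or.inr
      · rintro (h1 | h1)
        · exfalso
          have e1 : Nat.beq p.1 w = true := by
            rw [Nat.beq_eq]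
            rw [← h1]
          have e2 : Nat.beq p.2 m = true := by
            rw [Nat.beq_eq]
            rw [← h1]
          rw [e1, e2] at h
          exact absurd h (by simp)
        · exact h1

/-- Known neighbours of `u`. -/
def kvOf (K : KL) (u : ℕ) : ℕ :=
  List.rec 0 (fun p _ ih => cond (tb p.2 u) (Nat.lor (Nat.pow 2 p.1) ih) ih) K

/-- Known non-neighbours of `u`, and `u`. -/
def kzOf (K : KL) (u : ℕ) : ℕ :=
  List.rec (Nat.pow 2 u) (fun p _ ih => cond (tb p.2 u) ih (Nat.lor (Nat.pow 2 p.1) ih)) K

theorem testBit_lor_pow (a x j : ℕ) : (Nat.lor (Nat.pow 2 a) x).testBit j = true ↔ a = j ∨ x.testBit j = true := by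
  show (2 ^ a ||| x).testBit j = true ↔ _
  rw [Nat.testBit_or, Bool.or_eq_true, Nat.testBit_two_pow]
  simp

theorem kvOf_spec {K : KL} {u a : ℕ} (h : tb (kvOf K u) a = true) :
    ∃ p ∈ K, p.1 = a ∧ tb p.2 u = true := by
  rw [tb_eq] at h
  induction K with
  | nil => simp [kvOf] at h
  | cons p K ih =>
    have h0 : kvOf (p :: K) u = cond (tb p.2 u) (Nat.lor (Nat.pow 2 p.1) (kvOf K u)) (kvOf K u) := rfl
    rw [h0] at h
    cases h1 : tb p.2 u with
    | true =>
      rw [h1] at h
      rcases (testBit_lor_pow _ _ _).mp h with h2 | h2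
      · exact ⟨p, List.mem_cons_self, h2, h1⟩
      · obtain ⟨q, hq, h3⟩ := ih h2
        exact ⟨q, List.mem_cons_of_mem _ hq, h3⟩
    | false =>
      rw [h1] at h
      obtain ⟨q, hq, h3⟩ := ih h
      exact ⟨q, List.mem_cons_of_mem _ hq, h3⟩

theorem kzOf_spec {K : KL} {u a : ℕ} (h : tb (kzOf K u) a = true) :
    a = u ∨ ∃ p ∈ K, p.1 = a ∧ tb p.2 u = false := by
  rw [tb_eq] at h
  induction K with
  | nil =>
    have h0 : kzOf [] u = 2 ^ u := rfl
    rw [h0, Nat.testBit_two_pow] at h
    left
    simpa [eq_comm] using h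
  | cons p K ih =>
    have h0 : kzOf (p :: K) u = cond (tb p.2 u) (kzOf K u) (Nat.lor (Nat.pow 2 p.1) (kzOf K u)) := rfl
    rw [h0] at h
    cases h1 : tb p.2 u with
    | false =>
      rw [h1] at h
      rcases (testBit_lor_pow _ _ _).mp h with h2 | h2
      · exact Or.inr ⟨p, List.mem_cons_self, h2, h1⟩
      · rcases ih h2 with h3 | ⟨q, hq, h3⟩
        · exact Or.inl h3
        · exact Or.inr ⟨q, List.mem_cons_of_mem _ hq, h3⟩
    | true =>
      rw [h1] at h
      rcases ih h with h3 | ⟨q, hq, h3⟩
      · exact Or.inl h3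
      · exact Or.inr ⟨q, List.mem_cons_of_mem _ hq, h3⟩

theorem testBit_lor' (a b j : ℕ) : (Nat.lor a b).testBit j = (a.testBit j || b.testBit j) := by
  show (a ||| b).testBit j = _
  rw [Nat.testBit_or]

theorem mem_kv_or_kz {K : KL} {u : ℕ} {p : ℕ × ℕ} (hp : p ∈ K) :
    (Nat.lor (kvOf K u) (kzOf K u)).testBit p.1 = true := by
  rw [testBit_lor']
  induction K with
  | nil => simp at hp
  | cons q K ih =>
    have h0 : kvOf (q :: K) u = cond (tb q.2 u) (Nat.lor (Nat.pow 2 q.1) (kvOf K u)) (kvOf K u) := rfl
    have h0' : kzOf (q :: K) u = cond (tb q.2 u) (kzOf K u) (Nat.lor (Nat.pow 2 q.1) (kzOf K u)) := rfl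
    rw [h0, h0']
    have key : ∀ x y : ℕ, (x.testBit p.1 || y.testBit p.1) = true →
        ((Nat.lor (Nat.pow 2 q.1) x).testBit p.1 || y.testBit p.1) = true ∧
        (x.testBit p.1 || (Nat.lor (Nat.pow 2 q.1) y).testBit p.1) = true := by
      intro x y hxy
      rw [Bool.or_eq_true] at hxy ⊢
      rw [Bool.or_eq_true]
      rcases hxy with h2 | h2
      · exact ⟨Or.inl ((testBit_lor_pow _ _ _).mpr (Or.inr h2)), Or.inl h2⟩
      · exact ⟨Or.inr h2, Or.inr ((testBit_lor_pow _ _ _).mpr (Or.inr h2))⟩
    rcases List.mem_cons.mp hp with rfl | hp'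
    · cases h2 : tb p.2 u with
      | true =>
        simp only [cond_true]
        rw [Bool.or_eq_true]
        exact Or.inl ((testBit_lor_pow _ _ _).mpr (Or.inl rfl))
      | false =>
        simp only [cond_false]
        rw [Bool.or_eq_true]
        exact Or.inr ((testBit_lor_pow _ _ _).mpr (Or.inl rfl))
    · have h3 := ih hp'
      cases h2 : tb q.2 u with
      | true =>
        simp only [cond_true]
        exact (key _ _ h3).1
      | false =>
        simp only [cond_false]
        exact (key _ _ h3).2

theorem kz_self (K : KL) (u : ℕ) : (kzOf K u).testBit u = true := by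
  induction K with
  | nil =>
    have h0 : kzOf [] u = 2 ^ u := rfl
    rw [h0, Nat.testBit_two_pow]
    simp
  | cons q K ih =>
    have h0' : kzOf (q :: K) u = cond (tb q.2 u) (kzOf K u) (Nat.lor (Nat.pow 2 q.1) (kzOf K u)) := rfl
    rw [h0']
    cases tb q.2 u with
    | true => exact ih
    | false => exact (testBit_lor_pow _ _ _).mpr (Or.inr ih)

theorem u_mem_kz (K : KL) (u : ℕ) : (Nat.lor (kvOf K u) (kzOf K u)).testBit u = true := by
  rw [testBit_lor', Bool.or_eq_true]
  exact Or.inr (kz_self K u)

/-- The check of a cell: the neighbourhoods of the known vertices are constant on it, and it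
has at most one point if it contains a known vertex or `u`. -/
def cellOK (K : KL) (F : ℕ) (c : Cl) : Bool :=
  cond (Nat.beq c.s 1) true
    (fz (Nat.shiftLeft (Nat.sub (Nat.pow 2 c.s) 1) c.a) fun I =>
      cond (Nat.beq (Nat.land F I) 0)
        (allP (fun p => Nat.beq (Nat.land p.2 I) (cond (tb p.2 c.a) I 0)) K)
        false)

/-- `all` for cells. -/
def allC (f : Cl → Bool) (l : List Cl) : Bool :=
  List.rec true (fun h _ ih => cond (f h) ih false) l

theorem allC_iff {f : Cl → Bool} {l : List Cl} : allC f l = true ↔ ∀ x ∈ l, f x = true := by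
  induction l with
  | nil => simp [allC]
  | cons h t ih =>
    show cond (f h) (allC f t) false = true ↔ _
    cases hh : f h with
    | true => simp [ih, hh]
    | false => simp [hh]

/-- Check of a branching, apart from the children. -/
def checkBase (n : ℕ) (K : KL) (u : ℕ) (sizes : List ℕ) : Bool :=
  cond (Nat.blt u n)
    (cond (allP (fun p => cond (Nat.blt p.1 n) (cond (Nat.beq p.1 u) false true) false) K)
      (cond (Nat.beq sizes.sum n)
        (allC (cellOK K (Nat.lor (kvOf K u) (kzOf K u)))
          (annot K (kvOf K u) (kzOf K u) sizes 0)) false) false) false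

/-- The candidates. -/
def candidates (k lam mu : ℕ) (K : KL) (u : ℕ) (sizes : List ℕ) : List ℕ :=
  enumC (annot K (kvOf K u) (kzOf K u) sizes 0)
    (K.map fun p => cond (tb p.2 u) lam mu) k 0

section branch

variable {n k lam mu : ℕ} {Std : Fin n → Finset (Fin n)}

theorem cellOK_spec {K : KL} {F : ℕ} {c : Cl} (h : cellOK K F c = true) (hs : c.s ≠ 1) :
    (∀ j, c.a ≤ j → j < c.a + c.s → F.testBit j = false) ∧
    ∀ p ∈ K, ∀ j, c.a ≤ j → j < c.a + c.s → p.2.testBit j = p.2.testBit c.a := by
  unfold cellOK at h
  have h0 : Nat.beq c.s 1 = false := by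
    rw [← Bool.not_eq_true, Nat.beq_eq]
    exact hs
  rw [h0, cond_false, fz_eq] at h
  obtain ⟨h1, h2⟩ := cond_false_iff'.mp h
  rw [allP_iff] at h2
  have hI : ∀ j, c.a ≤ j → j < c.a + c.s →
      (Nat.shiftLeft (Nat.sub (Nat.pow 2 c.s) 1) c.a).testBit j = true := by
    intro j h3 h4
    rw [newBits_eq, testBit_newBits]
    exact ⟨h3, h4⟩
  constructor
  · intro j h3 h4
    have h5 : Nat.land F (Nat.shiftLeft (Nat.sub (Nat.pow 2 c.s) 1) c.a) = 0 :=
      Nat.eq_of_beq_eq_true h1
    have h6 : (F &&& Nat.shiftLeft (Nat.sub (Nat.pow 2 c.s) 1) c.a).testBit j = false := by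
      show (Nat.land F _).testBit j = false
      rw [h5]
      simp
    rw [Nat.testBit_and, hI j h3 h4] at h6
    simpa using h6
  · intro p hp j h3 h4
    have h5 : Nat.land p.2 (Nat.shiftLeft (Nat.sub (Nat.pow 2 c.s) 1) c.a) =
        cond (tb p.2 c.a) (Nat.shiftLeft (Nat.sub (Nat.pow 2 c.s) 1) c.a) 0 :=
      Nat.eq_of_beq_eq_true (h2 p hp)
    have h6 : (p.2 &&& Nat.shiftLeft (Nat.sub (Nat.pow 2 c.s) 1) c.a).testBit j =
        (cond (tb p.2 c.a) (Nat.shiftLeft (Nat.sub (Nat.pow 2 c.s) 1) c.a) 0).testBit j := by
      show (Nat.land p.2 _).testBit j = _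
      rw [h5]
    rw [Nat.testBit_and, hI j h3 h4, Bool.and_true] at h6
    rw [h6, tb_eq]
    cases h7 : p.2.testBit c.a with
    | true =>
      simp only [cond_true]
      exact hI j h3 h4
    | false =>
      simp

/-- The branching. -/
theorem good_branch {K : KL} {u : ℕ} {sizes : List ℕ} (hc : checkBase n K u sizes = true)
    (hchild : ∀ b ∈ candidates k lam mu K u sizes, Good n k lam mu Std ((u, b) :: K)) :
    Good n k lam mu Std K := by
  unfold checkBase at hc
  obtain ⟨h1, hc⟩ := cond_false_iff'.mp hc
  obtain ⟨h2, hc⟩ := cond_false_iff'.mp hc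
  obtain ⟨h3, h4⟩ := cond_false_iff'.mp hc
  have hun : u < n := blt_iff'.mp h1
  rw [allP_iff] at h2
  have hKlt : ∀ p ∈ K, p.1 < n ∧ p.1 ≠ u := by
    intro p hp
    obtain ⟨h5, h6⟩ := cond_false_iff'.mp (h2 p hp)
    refine ⟨blt_iff'.mp h5, ?_⟩
    intro h7
    have : Nat.beq p.1 u = true := by
      rw [Nat.beq_eq]
      exact h7
    rw [this] at h6
    exact absurd h6 (by simp)
  have hsum : sizes.sum = n := Nat.eq_of_beq_eq_true h3
  rw [allC_iff] at h4
  set kv := kvOf K u with hkv
  set kz := kzOf K u with hkz
  set cs := annot K kv kz sizes 0 with hcs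
  have hlay : Lay cs 0 n := by
    have := annot_lay K kv kz sizes 0
    rwa [Nat.zero_add, hsum] at this
  intro N hN hK
  let U : Fin n := ⟨u, hun⟩
  let A := N U
  let C : Cl → ℕ := fun c => (A.filter (inI c)).card
  obtain ⟨σ, -, h6, h7⟩ := exists_perm_cells A hlay (le_refl _)
  -- points of the cells with one point, in particular the known ones, are fixed
  have hfixF : ∀ j : Fin n, (Nat.lor kv kz).testBit j.val = true → σ j = j := by
    intro j hj
    obtain ⟨c, hc, h8⟩ := Lay_cover hlay j (Nat.zero_le _) j.2
    have h9 := h6 c hc j h8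
    by_cases hs : c.s = 1
    · apply Fin.ext
      have h10 := h9.1
      have h11 := h9.2
      have h12 := h8.1
      have h13 := h8.2
      omega
    · have h10 := (cellOK_spec (h4 c hc) hs).1 j.val h8.1 h8.2
      rw [hj] at h10
      exact absurd h10 (by simp)
  have hσu : σ U = U := hfixF U (u_mem_kz K u)
  have hσKn : ∀ p ∈ K, ∀ h : p.1 < n, σ ⟨p.1, h⟩ = ⟨p.1, h⟩ := fun p hp h =>
    hfixF ⟨p.1, h⟩ (mem_kv_or_kz hp)
  have hsymm : ∀ j, σ j = j → σ.symm j = j := fun j hj => by
    rw [Equiv.symm_apply_eq, hj]
  -- the known neighbourhoods are unchanged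
  have hinv : ∀ p ∈ K, (mset n p.2).image σ = mset n p.2 := by
    intro p hp
    apply Finset.eq_of_subset_of_card_le
    · intro j hj
      rw [Finset.mem_image] at hj
      obtain ⟨i, hi, rfl⟩ := hj
      rw [mem_mset] at hi ⊢
      obtain ⟨c, hc, h8⟩ := Lay_cover hlay i (Nat.zero_le _) i.2
      have h9 := h6 c hc i h8
      by_cases hs : c.s = 1
      · have : σ i = i := by
          apply Fin.ext
          have h10 := h9.1
          have h11 := h9.2
          have h12 := h8.1
          have h13 := h8.2
          omega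
        rw [this]
        exact hi
      · have h10 := (cellOK_spec (h4 c hc) hs).2 p hp
        rw [h10 _ h9.1 h9.2, ← h10 _ h8.1 h8.2]
        exact hi
    · rw [Finset.card_image_of_injective _ σ.injective]
  -- the new system
  have hmask := mset_foldMask hlay A h7
  have hKn' : Kn ((u, foldMask C cs 0) :: K) (act σ N) := by
    intro p hp hpn
    rcases List.mem_cons.mp hp with rfl | hp'
    · show (N (σ.symm U)).image σ = _
      rw [hsymm _ hσu]
      exact hmask
    · show (N (σ.symm ⟨p.1, hpn⟩)).image σ = _
      rw [hsymm _ (hσKn p hp' hpn), hK p hp' hpn]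
      exact hinv p hp'
  -- it is among the candidates
  have hbounds : ∀ c ∈ cs, c.lo ≤ C c ∧ C c ≤ c.hi := by
    intro c hc
    have hin := Lay_in hlay hc
    rcases annot_bounds K kv kz sizes 0 c hc with ⟨h8, h9, h10, h11⟩ | ⟨h8, h9, h10, h11⟩ | ⟨h8, h9⟩
    · obtain ⟨p, hp, h12, h13⟩ := kvOf_spec h9
      have hpn := (hKlt p hp).1
      have h14 : (⟨p.1, hpn⟩ : Fin n) ∈ A := by
        apply hN.symm
        rw [hK p hp hpn, mem_mset, ← tb_eq]
        exact h13
      have h15 : C c = 1 := by
        have h16 : A.filter (inI c) = {(⟨p.1, hpn⟩ : Fin n)} := by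
          ext j
          simp only [Finset.mem_filter, Finset.mem_singleton]
          constructor
          · rintro ⟨_, h17, h18⟩
            apply Fin.ext
            show j.val = p.1
            omega
          · rintro rfl
            refine ⟨h14, ?_, ?_⟩
            · show c.a ≤ p.1
              omega
            · show p.1 < c.a + c.s
              omega
        show (A.filter (inI c)).card = 1
        rw [h16]
        rfl
      rw [h10, h11, h15]
      exact ⟨le_refl _, le_refl _⟩
    · have h15 : C c = 0 := by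
        have h16 : A.filter (inI c) = ∅ := by
          apply Finset.eq_empty_of_forall_notMem
          intro j hj
          rw [Finset.mem_filter] at hj
          obtain ⟨h17, h18, h19⟩ := hj
          have hja : j.val = c.a := by omega
          rcases kzOf_spec h9 with h20 | ⟨p, hp, h20, h21⟩
          · have : j = U := Fin.ext (by
              show j.val = u
              omega)
            rw [this] at h17
            exact hN.irrefl U h17
          · have hpn := (hKlt p hp).1
            have : j = ⟨p.1, hpn⟩ := Fin.ext (by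
              show j.val = p.1
              omega)
            rw [this] at h17
            have h22 := hN.symm _ _ h17
            rw [hK p hp hpn, mem_mset, ← tb_eq, h21] at h22
            exact absurd h22 (by simp)
        show (A.filter (inI c)).card = 0
        rw [h16]
        rfl
      rw [h10, h11, h15]
      exact ⟨le_refl _, le_refl _⟩
    · rw [h8, h9]
      exact ⟨Nat.zero_le _, card_inI_le c A⟩
  have hS := annot_spec K kv kz sizes 0
  have hmem := mem_enumC K C cs hS hbounds 0
  have hT : sumT C cs = k := by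
    have h8 := card_eq_sum_Lay hlay A (fun j _ => ⟨Nat.zero_le _, j.2⟩)
    rw [hN.card] at h8
    exact h8.symm
  have hrem : K.map (sumS C cs) = K.map fun p => cond (tb p.2 u) lam mu := by
    apply List.map_congr_left
    intro p hp
    have hpn := (hKlt p hp).1
    have hne : U ≠ ⟨p.1, hpn⟩ := by
      intro h8
      apply (hKlt p hp).2
      exact (congrArg Fin.val h8).symm
    have h8 := hN.inter U ⟨p.1, hpn⟩ hne
    have h9 : (⟨p.1, hpn⟩ : Fin n) ∈ N U ↔ tb p.2 u = true := by
      rw [tb_eq]
      constructor
      · intro h10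
        have h11 := hN.symm _ _ h10
        rw [hK p hp hpn, mem_mset] at h11
        exact h11
      · intro h10
        apply hN.symm
        rw [hK p hp hpn, mem_mset]
        exact h10
    have h10 : (A ∩ mset n p.2).card = cond (tb p.2 u) lam mu := by
      have h11 : A ∩ mset n p.2 = N U ∩ N ⟨p.1, hpn⟩ := by
        rw [hK p hp hpn]
      rw [h11, h8]
      cases h12 : tb p.2 u with
      | true => rw [if_pos (h9.mpr h12)]; rfl
      | false =>
        rw [if_neg (fun h13 => by rw [h9.mp h13] at h12; exact absurd h12 (by simp))]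
        rfl
    rw [← h10, card_eq_sum_Lay hlay (A ∩ mset n p.2) (fun j _ => ⟨Nat.zero_le _, j.2⟩)]
    show ((cs.map fun c => bv (tb p.2 c.a) (C c)).sum) = _
    congr 1
    apply List.map_congr_left
    intro c hc
    -- the neighbourhood is constant on the cell
    have hconst : ∀ j : Fin n, inI c j → p.2.testBit j.val = p.2.testBit c.a := by
      intro j hj
      by_cases hs : c.s = 1
      · have h13 := hj.1
        have h14 := hj.2
        have : j.val = c.a := by omega
        rw [this]
      · exact (cellOK_spec (h4 c hc) hs).2 p hp j.val hj.1 hj.2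
    cases h13 : tb p.2 c.a with
    | true =>
      show C c = _
      show (A.filter (inI c)).card = _
      congr 1
      ext j
      simp only [Finset.mem_filter, Finset.mem_inter, mem_mset]
      constructor
      · rintro ⟨h14, h15⟩
        refine ⟨⟨h14, ?_⟩, h15⟩
        rw [hconst j h15, ← tb_eq, h13]
      · rintro ⟨⟨h14, _⟩, h15⟩
        exact ⟨h14, h15⟩
    | false =>
      show 0 = _
      symm
      rw [Finset.card_eq_zero]
      apply Finset.eq_empty_of_forall_notMem
      intro j hj
      simp only [Finset.mem_filter, Finset.mem_inter, mem_mset] at hj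
      obtain ⟨⟨_, h14⟩, h15⟩ := hj
      rw [hconst j h15, ← tb_eq, h13] at h14
      exact absurd h14 (by simp)
  rw [hT, hrem] at hmem
  obtain ⟨τ, hτ⟩ := hchild _ hmem (act σ N) (isSRG_act hN σ) hKn'
  refine ⟨σ.trans τ, ?_⟩
  rw [← act_act, hτ]

end branch

/-! ## Certificates -/

/-- Number `i` of a list of known lists. -/
def nthL : List KL → ℕ → Option KL
  | [], _ => none
  | a :: _, 0 => some a
  | _ :: l, i + 1 => nthL l i

theorem nthL_mem {l : List KL} {i : ℕ} {a : KL} (h : nthL l i = some a) : a ∈ l := by
  induction l generalizing i with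
  | nil => simp [nthL] at h
  | cons b l ih =>
    cases i with
    | zero =>
      simp only [nthL, Option.some.injEq] at h
      simp [h]
    | succ i =>
      simp only [nthL] at h
      exact List.mem_cons_of_mem _ (ih h)

/-- Check of a relabelling: the neighbourhoods of `T` are, after `π`, in `K`.  The empty list stands
for the identity. -/
def relabelOK (n : ℕ) (π : List ℕ) (T K : KL) : Bool :=
  List.rec (allP (fun p => memP p.1 p.2 K) T)
    (fun _ _ _ => cond (isPermF n π)
      (allP (fun p => cond (Nat.blt p.1 n) (memP (nthK π p.1) (imgF π p.2) K) false) T) false) π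

theorem good_of_relabelOK {n k lam mu : ℕ} {Std : Fin n → Finset (Fin n)} {π : List ℕ} {T K : KL}
    (h : relabelOK n π T K = true) (hG : Good n k lam mu Std T) : Good n k lam mu Std K := by
  cases π with
  | nil =>
    have h' : allP (fun p => memP p.1 p.2 K) T = true := h
    rw [allP_iff] at h'
    exact good_mono (fun p hp => memP_iff.mp (h' p hp)) hG
  | cons q π =>
    have h' : cond (isPermF n (q :: π))
      (allP (fun p => cond (Nat.blt p.1 n) (memP (nthK (q :: π) p.1) (imgF (q :: π) p.2) K) false) T) false = true := h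
    obtain ⟨h1, h2⟩ := cond_false_iff'.mp h'
    rw [allP_iff] at h2
    apply good_relabel h1 _ hG
    intro p hp
    obtain ⟨h3, h4⟩ := cond_false_iff'.mp (h2 p hp)
    exact ⟨blt_iff'.mp h3, memP_iff.mp h4⟩

/-- The children of a branching: candidate, index of a previous node, permutation. -/
def checkChildren (n : ℕ) (K : KL) (done : List KL) (u : ℕ) :
    List ℕ → List (ℕ × ℕ × List ℕ) → Bool
  | [], [] => true
  | b :: bs, (b', j, π) :: cs =>
    cond (Nat.beq b b')
      (cond (match nthL done j with
        | some T => relabelOK n π T ((u, b) :: K)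
        | none => false)
        (checkChildren n K done u bs cs) false) false
  | _, _ => false

/-- A node of the certificate. -/
structure Node where
  /-- the vertices assumed known, with their neighbourhoods -/
  known : KL
  /-- is this a leaf -/
  leaf : Bool
  /-- the vertex added -/
  u : ℕ
  /-- the sizes of the cells -/
  sizes : List ℕ
  /-- children: candidate, index of a previous node, permutation -/
  children : List (ℕ × ℕ × List ℕ)

/-- Check of one node. -/
def checkNode (n k lam mu : ℕ) (std : List ℕ) (done : List KL) (N : Node) : Bool :=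
  cond N.leaf
    (allK (fun i => memP i (nthK std i) N.known) (List.range n))
    (cond (checkBase n N.known N.u N.sizes)
      (checkChildren n N.known done N.u (candidates k lam mu N.known N.u N.sizes) N.children) false)

/-- Check of all nodes. -/
def checkNodes (n k lam mu : ℕ) (std : List ℕ) : List Node → List KL → Bool
  | [], _ => true
  | N :: rest, done =>
    cond (checkNode n k lam mu std done N) (checkNodes n k lam mu std rest (N.known :: done)) false

/-- The standard graph. -/
def stdN (n : ℕ) (std : List ℕ) : Fin n → Finset (Fin n) := fun u => mset n (nthK std u.val)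

section final

variable {n k lam mu : ℕ} {std : List ℕ}

theorem good_of_checkChildren {K : KL} {done : List KL} {u : ℕ}
    {Std : Fin n → Finset (Fin n)}
    (hdone : ∀ T ∈ done, Good n k lam mu Std T) :
    ∀ (l : List ℕ) (cs : List (ℕ × ℕ × List ℕ)), checkChildren n K done u l cs = true →
      ∀ b ∈ l, Good n k lam mu Std ((u, b) :: K) := by
  intro l
  induction l with
  | nil =>
    intro cs _ b hb
    simp at hb
  | cons b0 l ih =>
    intro cs h b hb
    cases cs with
    | nil => simp [checkChildren] at h
    | cons c cs =>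
      obtain ⟨b', j, π⟩ := c
      simp only [checkChildren] at h
      obtain ⟨h1, h⟩ := cond_false_iff'.mp h
      obtain ⟨h3, h⟩ := cond_false_iff'.mp h
      rw [List.mem_cons] at hb
      rcases hb with rfl | hb
      · cases hT : nthL done j with
        | none => simp [hT] at h3
        | some T =>
          simp only [hT] at h3
          exact good_of_relabelOK h3 (hdone T (nthL_mem hT))
      · exact ih cs h b hb

theorem good_of_checkNodes :
    ∀ (nodes : List Node) (done : List KL),
      (∀ T ∈ done, Good n k lam mu (stdN n std) T) →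
      checkNodes n k lam mu std nodes done = true →
      ∀ N ∈ nodes, Good n k lam mu (stdN n std) N.known := by
  intro nodes
  induction nodes with
  | nil =>
    intro _ _ _ N hN
    simp at hN
  | cons N0 rest ih =>
    intro done hdone h N hN
    simp only [checkNodes] at h
    obtain ⟨h1, h⟩ := cond_false_iff'.mp h
    have hN0 : Good n k lam mu (stdN n std) N0.known := by
      unfold checkNode at h1
      cases hleaf : N0.leaf with
      | true =>
        rw [hleaf, cond_true, allK_iff] at h1
        intro N' _ hK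
        refine ⟨Equiv.refl _, ?_⟩
        rw [act_one]
        funext u
        have h2 := memP_iff.mp (h1 u.val (List.mem_range.mpr u.2))
        exact hK _ h2 u.2
      | false =>
        rw [hleaf, cond_false] at h1
        obtain ⟨h2, h3⟩ := cond_false_iff'.mp h1
        exact good_branch h2 (good_of_checkChildren hdone _ _ h3)
    rw [List.mem_cons] at hN
    rcases hN with rfl | hN
    · exact hN0
    · apply ih (N0.known :: done) _ h N hN
      intro T hT
      rw [List.mem_cons] at hT
      rcases hT with rfl | hT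
      · exact hN0
      · exact hdone T hT

/-- The result of a certificate. -/
theorem exists_perm_of_check {nodes : List Node} (h : checkNodes n k lam mu std nodes [] = true)
    (hroot : ∃ N ∈ nodes, N.known = []) {N : Fin n → Finset (Fin n)} (hN : IsSRG n k lam mu N) :
    ∃ σ : Equiv.Perm (Fin n), act σ N = stdN n std := by
  obtain ⟨R, hR, hk⟩ := hroot
  have h1 := good_of_checkNodes nodes [] (by simp) h R hR
  rw [hk] at h1
  exact h1 N hN (by simp [Kn])

end final

end Cfsg.Agent.Lib.SRGSearch.Core
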