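import Cfsg.Agent.Lib.SRGSearch.Core

/-!
# Packed certificates for `Lib/SRGSearch/Core`

Each node of a certificate is stored as one natural number.  This makes the elaboration of a
certificate trivial: the term is a list of numerals.
-/

set_option autoImplicit false

namespace Cfsg.Agent.Lib.SRGSearch.Enc

open Cfsg.Agent.Lib.SRGSearch.Core

/-- Read `c` fields of `w` bits (`M = 2 ^ w`). -/
def rdK {α : Sort*} (w M : ℕ) (c s : ℕ) (k : List ℕ → ℕ → α) : α :=
  Nat.rec (motive := fun _ => ℕ → (List ℕ → ℕ → α) → α) (fun s k => k [] s)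
    (fun _ ih s k => fz (Nat.mod s M) fun a => fz (Nat.shiftRight s w) fun s' =>
      ih s' (fun l s'' => k (a :: l) s'')) c s k

/-- Read one field. -/
def rd1 {α : Sort*} (w M s : ℕ) (k : ℕ → ℕ → α) : α :=
  fz (Nat.mod s M) fun a => fz (Nat.shiftRight s w) fun s' => k a s'

/-- Read the known vertices. -/
def rdKnown {α : Sort*} (n Mn : ℕ) (c s : ℕ) (k : KL → ℕ → α) : α :=
  Nat.rec (motive := fun _ => ℕ → (KL → ℕ → α) → α) (fun s k => k [] s)
    (fun _ ih s k => rd1 8 256 s fun u s => rd1 n Mn s fun m s =>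
      ih s (fun l s'' => k ((u, m) :: l) s'')) c s k

/-- Read the children. -/
def rdCh {α : Sort*} (n Mn : ℕ) (c s : ℕ) (k : List (ℕ × ℕ × List ℕ) → ℕ → α) : α :=
  Nat.rec (motive := fun _ => ℕ → (List (ℕ × ℕ × List ℕ) → ℕ → α) → α) (fun s k => k [] s)
    (fun _ ih s k => rd1 n Mn s fun b s => rd1 16 65536 s fun j s => rd1 1 2 s fun f s =>
      rdK 8 256 (Nat.mul f n) s fun π s =>
        ih s (fun l s'' => k ((b, j, π) :: l) s'')) c s k

/-- Decode a node. -/
def dec (n Mn raw : ℕ) : Node :=
  rd1 8 256 raw fun nK s => rd1 1 2 s fun lf s => rd1 8 256 s fun u s => rd1 8 256 s fun nS s =>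
  rd1 16 65536 s fun nC s =>
  rdKnown n Mn nK s fun K s => rdK 8 256 nS s fun sz s => rdCh n Mn nC s fun ch _ =>
    ⟨K, Nat.beq lf 1, u, sz, ch⟩

/-- One step of the check, forcing the node. -/
noncomputable def stepRaw (n k lam mu : ℕ) (std : List ℕ) (N : Node) (ih : List KL → Bool) (done : List KL) : Bool :=
  Node.rec (motive := fun _ => Bool) (fun K lf u sz ch =>
    cond (checkNode n k lam mu std done ⟨K, lf, u, sz, ch⟩) (ih (K :: done)) false) N

theorem stepRaw_eq (n k lam mu : ℕ) (std : List ℕ) (N : Node) (ih : List KL → Bool)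
    (done : List KL) :
    stepRaw n k lam mu std N ih done = cond (checkNode n k lam mu std done N) (ih (N.known :: done)) false := by
  cases N
  rfl

/-- Check of a list of packed nodes. -/
noncomputable def checkRaw (n k lam mu : ℕ) (std : List ℕ) (Mn : ℕ) (raw : List ℕ) (done : List KL) : Bool :=
  List.rec (motive := fun _ => List KL → Bool) (fun _ => true)
    (fun r _ ih done => stepRaw n k lam mu std (dec n Mn r) ih done) raw done

theorem checkRaw_eq (n k lam mu : ℕ) (std : List ℕ) (Mn : ℕ) (raw : List ℕ) (done : List KL) :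
    checkRaw n k lam mu std Mn raw done = checkNodes n k lam mu std (raw.map (dec n Mn)) done := by
  induction raw generalizing done with
  | nil => rfl
  | cons r raw ih =>
    simp only [List.map_cons, checkNodes]
    rw [← ih]
    exact stepRaw_eq _ _ _ _ _ _ _ _

/-- The known part of a packed node. -/
def decK (n Mn raw : ℕ) : KL :=
  rd1 8 256 raw fun nK s => rd1 1 2 s fun _ s => rd1 8 256 s fun _ s => rd1 8 256 s fun _ s =>
  rd1 16 65536 s fun _ s => rdKnown n Mn nK s fun K _ => K

theorem rd1_eq {α : Sort*} (w M s : ℕ) (k : ℕ → ℕ → α) :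
    rd1 w M s k = k (Nat.mod s M) (Nat.shiftRight s w) := by
  simp only [rd1, fz_eq]

theorem rdK_succ' {α : Sort*} (w M c s : ℕ) (k : List ℕ → ℕ → α) :
    rdK w M (c + 1) s k = fz (Nat.mod s M) (fun a => fz (Nat.shiftRight s w) fun s' =>
      rdK w M c s' (fun l s'' => k (a :: l) s'')) := rfl

theorem rdK_succ {α : Sort*} (w M c s : ℕ) (k : List ℕ → ℕ → α) :
    rdK w M (c + 1) s k = rdK w M c (Nat.shiftRight s w) (fun l s'' => k (Nat.mod s M :: l) s'') := by
  rw [rdK_succ']
  simp only [fz_eq]

theorem rdKnown_succ' {α : Sort*} (n Mn c s : ℕ) (k : KL → ℕ → α) :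
    rdKnown n Mn (c + 1) s k = rd1 8 256 s (fun u s => rd1 n Mn s fun m s =>
      rdKnown n Mn c s (fun l s'' => k ((u, m) :: l) s'')) := rfl

theorem rdKnown_succ {α : Sort*} (n Mn c s : ℕ) (k : KL → ℕ → α) :
    rdKnown n Mn (c + 1) s k = rdKnown n Mn c (Nat.shiftRight (Nat.shiftRight s 8) n)
      (fun l s'' => k ((Nat.mod s 256, Nat.mod (Nat.shiftRight s 8) Mn) :: l) s'') := by
  rw [rdKnown_succ']
  simp only [rd1_eq]

theorem rdCh_succ {α : Sort*} (n Mn c s : ℕ) (k : List (ℕ × ℕ × List ℕ) → ℕ → α) :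
    rdCh n Mn (c + 1) s k =
      rd1 n Mn s fun b s => rd1 16 65536 s fun j s => rd1 1 2 s fun f s =>
      rdK 8 256 (Nat.mul f n) s fun π s =>
        rdCh n Mn c s (fun l s'' => k ((b, j, π) :: l) s'') := rfl

theorem rdK_proj {α β : Sort*} (g : α → β) (w M c s : ℕ) (k : List ℕ → ℕ → α) :
    g (rdK w M c s k) = rdK w M c s (fun l s' => g (k l s')) := by
  induction c generalizing s k with
  | zero => rfl
  | succ c ih =>
    rw [rdK_succ, rdK_succ]
    exact ih _ _

theorem rdK_const {β : Sort*} (x : β) (w M c s : ℕ) : rdK w M c s (fun _ _ => x) = x := by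
  induction c generalizing s with
  | zero => rfl
  | succ c ih =>
    rw [rdK_succ]
    exact ih _

theorem rdKnown_proj {α β : Sort*} (g : α → β) (n Mn c s : ℕ) (k : KL → ℕ → α) :
    g (rdKnown n Mn c s k) = rdKnown n Mn c s (fun l s' => g (k l s')) := by
  induction c generalizing s k with
  | zero => rfl
  | succ c ih =>
    rw [rdKnown_succ, rdKnown_succ]
    exact ih _ _

theorem rdCh_proj {α β : Sort*} (g : α → β) (n Mn c s : ℕ) (k : List (ℕ × ℕ × List ℕ) → ℕ → α) :
    g (rdCh n Mn c s k) = rdCh n Mn c s (fun l s' => g (k l s')) := by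
  induction c generalizing s k with
  | zero => rfl
  | succ c ih =>
    rw [rdCh_succ, rdCh_succ]
    simp only [rd1_eq]
    rw [rdK_proj g]
    simp only [ih]

theorem rdCh_const {β : Sort*} (x : β) (n Mn c s : ℕ) : rdCh n Mn c s (fun _ _ => x) = x := by
  induction c generalizing s with
  | zero => rfl
  | succ c ih =>
    rw [rdCh_succ]
    simp only [rd1_eq, ih, rdK_const]

theorem dec_known (n Mn raw : ℕ) : (dec n Mn raw).known = decK n Mn raw := by
  simp only [dec, decK, rd1_eq]
  rw [rdKnown_proj Node.known]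
  simp only [rdK_proj Node.known, rdCh_proj Node.known, rdCh_const, rdK_const]

/-- The list of known lists after some nodes. -/
def doneAfter (n Mn : ℕ) (raw : List ℕ) (done : List KL) : List KL :=
  List.rec (motive := fun _ => List KL → List KL) (fun d => d)
    (fun r _ ih d => ih (decK n Mn r :: d)) raw done

theorem checkRaw_append (n k lam mu : ℕ) (std : List ℕ) (Mn : ℕ) (a b : List ℕ) (done : List KL) :
    checkRaw n k lam mu std Mn (a ++ b) done =
      cond (checkRaw n k lam mu std Mn a done)
        (checkRaw n k lam mu std Mn b (doneAfter n Mn a done)) false := by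
  induction a generalizing done with
  | nil => rfl
  | cons r a ih =>
    show stepRaw n k lam mu std (dec n Mn r) (fun d => checkRaw n k lam mu std Mn (a ++ b) d) done =
      cond (stepRaw n k lam mu std (dec n Mn r) (fun d => checkRaw n k lam mu std Mn a d) done)
        (checkRaw n k lam mu std Mn b (doneAfter n Mn a (decK n Mn r :: done))) false
    rw [stepRaw_eq, stepRaw_eq, dec_known]
    simp only [ih]
    cases checkNode n k lam mu std done (dec n Mn r) <;> simp

theorem checkRaw_append' {n k lam mu : ℕ} {std : List ℕ} {Mn : ℕ} {a b : List ℕ} {done : List KL}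
    (h1 : checkRaw n k lam mu std Mn a done = true)
    (h2 : checkRaw n k lam mu std Mn b (doneAfter n Mn a done) = true) :
    checkRaw n k lam mu std Mn (a ++ b) done = true := by
  rw [checkRaw_append, h1, cond_true, h2]

/-- The result of a packed certificate. -/
theorem exists_perm_of_checkRaw {n k lam mu : ℕ} {std : List ℕ} {Mn : ℕ} {raw : List ℕ}
    (h : checkRaw n k lam mu std Mn raw [] = true)
    (hroot : ∃ r ∈ raw, (dec n Mn r).known = []) {N : Fin n → Finset (Fin n)}
    (hN : IsSRG n k lam mu N) : ∃ σ : Equiv.Perm (Fin n), act σ N = stdN n std := by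
  rw [checkRaw_eq] at h
  obtain ⟨r, hr, hk⟩ := hroot
  exact exists_perm_of_check h ⟨_, List.mem_map.mpr ⟨r, hr, rfl⟩, hk⟩ hN

end Cfsg.Agent.Lib.SRGSearch.Enc
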